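import Mathlib.AlgebraicTopology.SimplicialObject.ChainHomotopy
import Mathlib.CategoryTheory.Limits.FormalCoproducts.Cech
import Mathlib.CategoryTheory.Sites.SheafCohomology.Cech
import Mathlib.Algebra.Homology.Opposite

set_option autoImplicit false
universe w v u v' u'

open CategoryTheory Limits Simplicial Opposite

namespace Groth.Agent.CechHtpyLib

variable {C : Type u} [Category.{v} C] [HasFiniteProducts C]
variable {U V : FormalCoproduct.{w} C} (f g : U ⟶ V)

/-- The mixed map `U^{n+1} ⟶ V^{n+2}` attached to a map of index sets. -/
noncomputable def mixed {α β : Type} [HasProductsOfShape α C] [HasProductsOfShape β C]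
    (p : β → α) (c : β → Bool) : U.power α ⟶ V.power β :=
  Fan.IsLimit.lift (V.isLimitPowerFan β) (fun a => U.powerπ (p a) ≫ bif c a then f else g)

lemma mixed_π {α β : Type} [HasProductsOfShape α C] [HasProductsOfShape β C]
    (p : β → α) (c : β → Bool) (a : β) :
    mixed f g p c ≫ V.powerπ a = U.powerπ (p a) ≫ bif c a then f else g :=
  Fan.IsLimit.fac _ _ a

omit [HasFiniteProducts C] in
lemma hom_ext {α : Type} [HasProductsOfShape α C] {W : FormalCoproduct.{w} C}
    {p q : W ⟶ V.power α} (h : ∀ a, p ≫ V.powerπ a = q ≫ V.powerπ a) : p = q :=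
  Fan.IsLimit.hom_ext (V.isLimitPowerFan α) _ _ h

set_option backward.defeqAttrib.useBackward true in
set_option backward.isDefEq.respectTransparency false in
lemma powerMap_π {α : Type} [HasProductsOfShape α C] (a : α) :
    FormalCoproduct.powerMap f α ≫ V.powerπ a = U.powerπ a ≫ f := by
  ext i
  · simp
  · dsimp
    simp only [Category.comp_id]
    exact Pi.map_π _ _

lemma mixed_mapPower {α β γ : Type} [HasProductsOfShape α C] [HasProductsOfShape β C]
    [HasProductsOfShape γ C] (p : β → α) (c : β → Bool) (s : γ → β) :
    mixed f g p c ≫ V.mapPower s = mixed f g (p ∘ s) (c ∘ s) := by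
  refine hom_ext fun a => ?_
  rw [Category.assoc, FormalCoproduct.mapPower_π, mixed_π, mixed_π]
  rfl

lemma mapPower_mixed {α β γ : Type} [HasProductsOfShape α C] [HasProductsOfShape β C]
    [HasProductsOfShape γ C] (p : β → α) (c : β → Bool) (s : α → γ) :
    U.mapPower s ≫ mixed f g p c = mixed f g (s ∘ p) c := by
  refine hom_ext fun a => ?_
  rw [Category.assoc, mixed_π, mixed_π, FormalCoproduct.mapPower_π_assoc]
  rfl

lemma mixed_const_true {α : Type} [HasProductsOfShape α C] :
    mixed f g (id : α → α) (fun _ => true) = FormalCoproduct.powerMap f α :=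
  hom_ext fun a => by rw [mixed_π, powerMap_π]; rfl

lemma mixed_const_false {α : Type} [HasProductsOfShape α C] :
    mixed f g (id : α → α) (fun _ => false) = FormalCoproduct.powerMap g α :=
  hom_ext fun a => by rw [mixed_π, powerMap_π]; rfl

lemma mixed_congr {α β : Type} [HasProductsOfShape α C] [HasProductsOfShape β C]
    {p p' : β → α} {c c' : β → Bool} (hp : ∀ b, p b = p' b) (hc : ∀ b, c b = c' b) :
    mixed f g p c = mixed f g p' c' := by rw [funext hp, funext hc]

lemma val_succAbove {m : ℕ} (p : Fin (m + 1)) (i : Fin m) :
    ((p.succAbove i : Fin (m + 1)) : ℕ) = if (i : ℕ) < p then (i : ℕ) else i + 1 := by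
  rcases lt_or_ge i.castSucc p with h | h
  · rw [Fin.succAbove_of_castSucc_lt _ _ h, if_pos (by simpa [Fin.lt_def] using h)]
    rfl
  · rw [Fin.succAbove_of_le_castSucc _ _ h, if_neg (by simpa [Fin.le_def] using h)]
    rfl

lemma val_predAbove {m : ℕ} (p : Fin m) (i : Fin (m + 1)) :
    ((p.predAbove i : Fin m) : ℕ) = if (p : ℕ) < i then (i : ℕ) - 1 else i := by
  rcases lt_or_ge p.castSucc i with h | h
  · rw [Fin.predAbove_of_castSucc_lt _ _ h, if_pos (by simpa [Fin.lt_def] using h)]
    rfl
  · rw [Fin.predAbove_of_le_castSucc _ _ h, if_neg (by simpa [Fin.le_def] using h)]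
    rfl

/-- Prism maps between Cech objects. -/
noncomputable def prism {n : ℕ} (i : Fin (n + 1)) :
    U.power (Fin (n + 1)) ⟶ V.power (Fin (n + 2)) :=
  mixed f g i.predAbove (fun a => decide ((a : ℕ) ≤ i))

/-- Any two maps of Cech objects induced by maps of formal coproducts are homotopic. -/
noncomputable def cechHomotopy :
    SimplicialObject.Homotopy (FormalCoproduct.cechFunctor.map f)
      (FormalCoproduct.cechFunctor.map g) where
  h i := prism f g i
  h_zero_comp_δ_zero n := by
    change prism f g 0 ≫ V.mapPower (Fin.succAbove 0) = FormalCoproduct.powerMap g (Fin (n + 1))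
    rw [prism, mixed_mapPower, ← mixed_const_false f g]
    refine mixed_congr f g (fun b => ?_) (fun b => ?_)
    · apply Fin.ext
      simp only [Function.comp_apply, id_eq, val_predAbove, val_succAbove, Fin.val_succ,
        Fin.val_castSucc, Fin.val_zero, Fin.val_last]
      split_ifs <;> omega
    · simp only [Function.comp_apply, val_predAbove, val_succAbove, Fin.val_succ,
        Fin.val_castSucc, Fin.val_zero, Fin.val_last, decide_eq_decide, decide_eq_false_iff_not,
        decide_eq_true_iff]
      split_ifs <;> omega
  h_last_comp_δ_last n := by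
    change prism f g (Fin.last n) ≫ V.mapPower (Fin.succAbove (Fin.last (n + 1))) =
      FormalCoproduct.powerMap f (Fin (n + 1))
    rw [prism, mixed_mapPower, ← mixed_const_true f g]
    refine mixed_congr f g (fun b => ?_) (fun b => ?_)
    · apply Fin.ext
      simp only [Function.comp_apply, id_eq, val_predAbove, val_succAbove, Fin.val_succ,
        Fin.val_castSucc, Fin.val_zero, Fin.val_last]
      split_ifs <;> omega
    · simp only [Function.comp_apply, val_predAbove, val_succAbove, Fin.val_succ,
        Fin.val_castSucc, Fin.val_zero, Fin.val_last, decide_eq_decide, decide_eq_false_iff_not,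
        decide_eq_true_iff]
      split_ifs <;> omega
  h_succ_comp_δ_castSucc_of_lt {n} i j hij := by
    have hij' : (i : ℕ) ≤ j := hij
    change prism f g j.succ ≫ V.mapPower (Fin.succAbove i.castSucc) =
      U.mapPower (Fin.succAbove i) ≫ prism f g j
    rw [prism, prism, mixed_mapPower, mapPower_mixed]
    refine mixed_congr f g (fun b => ?_) (fun b => ?_)
    · apply Fin.ext
      simp only [Function.comp_apply, id_eq, val_predAbove, val_succAbove, Fin.val_succ,
        Fin.val_castSucc, Fin.val_zero, Fin.val_last]
      split_ifs <;> omega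
    · simp only [Function.comp_apply, val_predAbove, val_succAbove, Fin.val_succ,
        Fin.val_castSucc, Fin.val_zero, Fin.val_last, decide_eq_decide, decide_eq_false_iff_not,
        decide_eq_true_iff]
      split_ifs <;> omega
  h_succ_comp_δ_castSucc_succ {n} j := by
    change prism f g j.succ ≫ V.mapPower (Fin.succAbove j.castSucc.succ) =
      prism f g j.castSucc ≫ V.mapPower (Fin.succAbove j.castSucc.succ)
    rw [prism, prism, mixed_mapPower, mixed_mapPower]
    refine mixed_congr f g (fun b => ?_) (fun b => ?_)
    · apply Fin.ext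
      simp only [Function.comp_apply, id_eq, val_predAbove, val_succAbove, Fin.val_succ,
        Fin.val_castSucc, Fin.val_zero, Fin.val_last]
      split_ifs <;> omega
    · simp only [Function.comp_apply, val_predAbove, val_succAbove, Fin.val_succ,
        Fin.val_castSucc, Fin.val_zero, Fin.val_last, decide_eq_decide, decide_eq_false_iff_not,
        decide_eq_true_iff]
      split_ifs <;> omega
  h_castSucc_comp_δ_succ_of_lt {n} i j hji := by
    have hji' : (j : ℕ) < i := hji
    change prism f g j.castSucc ≫ V.mapPower (Fin.succAbove i.succ) =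
      U.mapPower (Fin.succAbove i) ≫ prism f g j
    rw [prism, prism, mixed_mapPower, mapPower_mixed]
    refine mixed_congr f g (fun b => ?_) (fun b => ?_)
    · apply Fin.ext
      simp only [Function.comp_apply, id_eq, val_predAbove, val_succAbove, Fin.val_succ,
        Fin.val_castSucc, Fin.val_zero, Fin.val_last]
      split_ifs <;> omega
    · simp only [Function.comp_apply, val_predAbove, val_succAbove, Fin.val_succ,
        Fin.val_castSucc, Fin.val_zero, Fin.val_last, decide_eq_decide, decide_eq_false_iff_not,
        decide_eq_true_iff]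
      split_ifs <;> omega
  h_comp_σ_castSucc_of_le {n} i j hij := by
    have hij' : (i : ℕ) ≤ j := hij
    change prism f g j ≫ V.mapPower (Fin.predAbove i.castSucc) =
      U.mapPower (Fin.predAbove i) ≫ prism f g j.succ
    rw [prism, prism, mixed_mapPower, mapPower_mixed]
    refine mixed_congr f g (fun b => ?_) (fun b => ?_)
    · apply Fin.ext
      simp only [Function.comp_apply, id_eq, val_predAbove, val_succAbove, Fin.val_succ,
        Fin.val_castSucc, Fin.val_zero, Fin.val_last]
      split_ifs <;> omega
    · simp only [Function.comp_apply, val_predAbove, val_succAbove, Fin.val_succ,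
        Fin.val_castSucc, Fin.val_zero, Fin.val_last, decide_eq_decide, decide_eq_false_iff_not,
        decide_eq_true_iff]
      split_ifs <;> omega
  h_comp_σ_succ_of_lt {n} i j hji := by
    have hji' : (j : ℕ) ≤ i := hji
    change prism f g j ≫ V.mapPower (Fin.predAbove i.succ) =
      U.mapPower (Fin.predAbove i) ≫ prism f g j.castSucc
    rw [prism, prism, mixed_mapPower, mapPower_mixed]
    refine mixed_congr f g (fun b => ?_) (fun b => ?_)
    · apply Fin.ext
      simp only [Function.comp_apply, id_eq, val_predAbove, val_succAbove, Fin.val_succ,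
        Fin.val_castSucc, Fin.val_zero, Fin.val_last]
      split_ifs <;> omega
    · simp only [Function.comp_apply, val_predAbove, val_succAbove, Fin.val_succ,
        Fin.val_castSucc, Fin.val_zero, Fin.val_last, decide_eq_decide, decide_eq_false_iff_not,
        decide_eq_true_iff]
      split_ifs <;> omega

end Groth.Agent.CechHtpyLib
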