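import Groth.Agent.CechHtpyLib.Basic

set_option autoImplicit false
universe w v u v' u'

open CategoryTheory Limits Simplicial Opposite AlgebraicTopology

namespace Groth.Agent.CechHtpyLib

variable {D : Type u} [Category.{v} D] {A : Type u'} [Category.{v'} A] [Preadditive A]
variable (P : Dᵒᵖ ⥤ A) {X Y : SimplicialObject D} {f g : X ⟶ Y}

/-- The morphism of cochain complexes attached to a simplicial morphism and a contravariant
functor. -/
noncomputable abbrev cochainMap (f : X ⟶ Y) :
    (alternatingCofaceMapComplex A).obj (Y.rightOp ⋙ P) ⟶
      (alternatingCofaceMapComplex A).obj (X.rightOp ⋙ P) :=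
  (alternatingCofaceMapComplex A).map
    (((Functor.whiskeringLeft _ _ _).map (NatTrans.rightOp f)).app P)

set_option backward.defeqAttrib.useBackward true in
set_option backward.isDefEq.respectTransparency false in
lemma cochain_d (X : SimplicialObject D) (n : ℕ) :
    ((alternatingCofaceMapComplex A).obj (X.rightOp ⋙ P)).d n (n + 1) =
      (((alternatingFaceMapComplex Aᵒᵖ).obj
        (((SimplicialObject.whiskering D Aᵒᵖ).obj P.rightOp).obj X)).d (n + 1) n).unop := by
  rw [alternatingFaceMapComplex_obj_d]
  dsimp [AlternatingCofaceMapComplex.obj]
  rw [CochainComplex.of_d]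
  simp only [AlternatingCofaceMapComplex.objD, AlternatingFaceMapComplex.objD, unop_sum,
    unop_zsmul]
  rfl

set_option backward.defeqAttrib.useBackward true in
set_option backward.isDefEq.respectTransparency false in
/-- A simplicial homotopy gives a homotopy of cochain complexes after applying a contravariant
functor. -/
noncomputable def cochainHomotopy (H : SimplicialObject.Homotopy f g) :
    _root_.Homotopy (cochainMap P f) (cochainMap P g) where
  hom i j := ((H.whiskerRight P.rightOp).toChainHomotopy.hom j i).unop
  zero i j hij := Quiver.Hom.op_inj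
    ((H.whiskerRight P.rightOp).toChainHomotopy.zero j i hij)
  comm n := Quiver.Hom.op_inj (by
    have h := (H.whiskerRight P.rightOp).toChainHomotopy.comm n
    cases n with
    | zero =>
      rw [prevD_eq_zero _ _ (by simp), dNext_eq (i' := 1) (w := by simp)]
      rw [dNext_eq_zero _ _ (by simp), prevD_eq (j' := 1) (w := by simp)] at h
      rw [cochain_d]
      simp only [alternatingCofaceMapComplex_map, op_add, op_comp, Quiver.Hom.op_unop, op_zero,
        zero_add, add_zero] at h ⊢
      exact h
    | succ n =>
      rw [dNext_eq (i' := n + 2) (w := by simp), prevD_eq (j' := n) (w := by simp)]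
      rw [dNext_eq (i' := n) (w := by simp), prevD_eq (j' := n + 2) (w := by simp)] at h
      rw [cochain_d, cochain_d]
      simp only [op_add, op_comp, Quiver.Hom.op_unop]
      refine Eq.trans ?_ ((h.trans (congrArg (· + _) (add_comm _ _))).trans ?_)
      · rfl
      · rfl)

theorem homologyMap_eq [CategoryWithHomology A] (H : SimplicialObject.Homotopy f g) (q : ℕ) :
    HomologicalComplex.homologyMap (cochainMap P f) q =
      HomologicalComplex.homologyMap (cochainMap P g) q :=
  (cochainHomotopy P H).homologyMap_eq q

end Groth.Agent.CechHtpyLib
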